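import Cfsg.Agent.H543.RM.Base
import Cfsg.Agent.H464.RM.Tools
import Cfsg.Agent.H148.Ru.Row
import Cfsg.Agent.H978.RadRu
import Cfsg.Agent.CpAutRuFive.Main

/-!
# S3849, P11: the Rudvalis group (helper543)
-/

set_option autoImplicit false
set_option maxRecDepth 100000
set_option exponentiation.threshold 5000

namespace Cfsg.Agent.H543.RM

open Subgroup Cfsg Cfsg.Agent.H571.DExt

universe u

/-- the centralizer of an element of order `p` is divisible by `p ^ 2` -/
theorem sq_dvd_cent {G : Type*} [Group G] [Finite G] {p : ℕ} (hp : p.Prime) (h : p ^ 2 ∣ Nat.card G) {x : G}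
    (hx : orderOf x = p) : p ^ 2 ∣ Nat.card (centralizer ({x} : Set G)) := by
  have hF : Fact p.Prime := ⟨hp⟩
  obtain ⟨P, hP⟩ := (IsPGroup.of_card (G := zpowers x) (p := p) (n := 1) (by rw [Nat.card_zpowers, hx, pow_one])).exists_le_sylow
  have hxP : x ∈ (P : Subgroup G) := hP (mem_zpowers x)
  have hP2 : p ^ 2 ∣ Nat.card (P : Subgroup G) := P.pow_dvd_card_of_pow_dvd_card h
  have hnt : Nontrivial (P : Subgroup G) := by
    rw [← Finite.one_lt_card_iff_nontrivial]
    have := Nat.le_of_dvd Nat.card_pos hP2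
    nlinarith [hp.two_le]
  have hz := P.isPGroup'.center_nontrivial
  set D : Subgroup G := (P : Subgroup G) ⊓ centralizer ({x} : Set G) with hD
  have hDp : IsPGroup p D := P.isPGroup'.to_le inf_le_left
  obtain ⟨k, hk⟩ := hDp.exists_card_eq
  have hxD : zpowers x ≤ D := zpowers_le.2 ⟨hxP, mem_centralizer_singleton_iff.2 rfl⟩
  have hk2 : 2 ≤ k := by
    by_contra hlt
    have h1 : zpowers x = D := by
      apply eq_of_le_of_card_ge hxD
      rw [Nat.card_zpowers, hx, hk]
      calc p ^ k ≤ p ^ 1 := Nat.pow_le_pow_right hp.pos (by omega)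
        _ = p := pow_one p
    -- the centre is contained in `⟨x⟩`
    set Z : Subgroup G := (center (P : Subgroup G)).map (P : Subgroup G).subtype with hZ
    have hZD : Z ≤ zpowers x := by
      rw [h1]
      rintro _ ⟨y, hy, rfl⟩
      exact ⟨y.2, mem_centralizer_singleton_iff.2 (congrArg Subtype.val ((mem_center_iff.1 hy) ⟨x, hxP⟩)).symm⟩
    have hZc : Nat.card Z = Nat.card (center (P : Subgroup G)) := card_map_of_injective (subtype_injective _)
    have hZ1 : 1 < Nat.card Z := by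
      rw [hZc]; exact Finite.one_lt_card_iff_nontrivial.2 hz
    have hZx : Z = zpowers x := by
      apply eq_of_le_of_card_ge hZD
      have h2 := card_dvd_of_le hZD
      rw [Nat.card_zpowers, hx] at h2 ⊢
      rcases (Nat.dvd_prime hp).1 h2 with h3 | h3
      · omega
      · exact h3.ge
    have hxZ : x ∈ Z := by rw [hZx]; exact mem_zpowers x
    obtain ⟨y, hy, hyx⟩ := hxZ
    have h3 : (P : Subgroup G) ≤ D := by
      intro g hg
      refine ⟨hg, mem_centralizer_singleton_iff.2 ?_⟩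
      have h4 := congrArg Subtype.val ((mem_center_iff.1 hy) ⟨g, hg⟩)
      have h5 : g * (y : G) = y * g := h4
      have h6 : (y : G) = x := hyx
      rwa [h6] at h5
    have h4 := Subgroup.card_le_of_le h3
    have h5 := Nat.le_of_dvd Nat.card_pos hP2
    rw [← h1, Nat.card_zpowers, hx] at h4
    nlinarith [hp.two_le]
  exact ((pow_dvd_pow p hk2).trans (dvd_of_eq hk.symm)).trans (card_dvd_of_le inf_le_right)

namespace RuRow

open Cfsg.Agent.SporadicB Cfsg.Agent.SporRec.TCUpperCert Cfsg.Agent.SporRec.R3.Kernel Cfsg.Agent.RuD.Letters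
open Cfsg.Agent.H148.Ru (fin simple)

theorem cru : Nat.card RuOrder.H = 145926144000 := RuOrder.card_H

theorem c13 {R : Subgroup RuOrder.H} (hR : Nat.card R = 13) : Nat.card (normalizer (R : Set RuOrder.H)) = 624 := by
  have := fin
  have := simple
  exact (H940.Eng.cn_exact H148.Ru.na H148.Ru.card (r := 13) (by decide +kernel) (by decide +kernel) (by decide +kernel) hR
    (H148.Ru.cent13 hR) (C := 52) (N := 624) (by decide +kernel) hR).2

theorem c29 {R : Subgroup RuOrder.H} (hR : Nat.card R = 29) : Nat.card (normalizer (R : Set RuOrder.H)) = 406 := by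
  have := fin
  have := simple
  exact (H940.Eng.cn_exact H148.Ru.na H148.Ru.card (r := 29) (by decide +kernel) (by decide +kernel) (by decide +kernel) hR
    (H148.Ru.cent29 hR) (C := 29) (N := 406) (by decide +kernel) hR).2

theorem c7 {R : Subgroup RuOrder.H} (hR : Nat.card R = 7) :
    Nat.card (normalizer (R : Set RuOrder.H)) = 21 ∨ Nat.card (normalizer (R : Set RuOrder.H)) = 168 := by
  have := fin
  have := simple
  have h := H940.Eng.cnP_sound H148.Ru.na H148.Ru.card (r := 7) (by decide +kernel) (by decide +kernel) (by decide +kernel) hR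
    (H148.Ru.cent7 hR) (P := fun c m => (c == 7 && m == 21) || (c == 28 && m == 168) || c == 84) (by decide +kernel) hR
  have hle := H148.Ru.cent7_le hR
  simp only [Bool.or_eq_true, Bool.and_eq_true, beq_iff_eq] at h
  rcases h with (⟨-, h2⟩ | ⟨-, h2⟩) | h
  · exact Or.inl h2
  · exact Or.inr h2
  · omega

theorem inv25 : H171.Odd.Inv1 2 5 RuOrder.H := by
  have := fin
  refine H171.Odd.inv1_of_cent (a := 11) (b := 3) (w := 3) Nat.prime_two (by norm_num) (by rw [cru]; norm_num)
    (by rw [cru]; norm_num) (fun k h1 h2 => ?_) (fun y hy hd => ?_)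
  · interval_cases k <;> norm_num
  · exact CpAutRuFive.not_dvd hy (dvd_trans (by norm_num) hd)

theorem two_five : ¬ Dom ({2, 5} : Set ℕ) RuOrder.H := by
  have := fin
  have hF : Fact (Nat.Prime 5) := ⟨by norm_num⟩
  have hr := rel_of_chk H978.RadRu.chk_rels
  have r1 := hr (H978.RadRu.rep 5 H978.RadRu.wa) (by simp)
  have r2 := hr (H978.RadRu.rep 5 H978.RadRu.wb) (by simp)
  have r3 := hr (H978.RadRu.rep 5 H978.RadRu.wc) (by simp)
  have e1 : wprod ml (H978.RadRu.wa ++ H978.RadRu.wc) = wprod ml (H978.RadRu.wc ++ H978.RadRu.wa) :=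
    H978.RadRu.eq_of_chkEqW (by decide +kernel)
  have e2 : wprod ml (H978.RadRu.wb ++ H978.RadRu.wc) = wprod ml (H978.RadRu.wc ++ H978.RadRu.wb) :=
    H978.RadRu.eq_of_chkEqW (by decide +kernel)
  have e3 : wprod ml (H978.RadRu.wa ++ H978.RadRu.wb) = wprod ml (H978.RadRu.wc ++ (H978.RadRu.wb ++ H978.RadRu.wa)) :=
    H978.RadRu.eq_of_chkEqW (by decide +kernel)
  have hc1 : (wprod ml H978.RadRu.wc : RuOrder.H) ≠ 1 :=
    H978.RadRu.ne_one_of (b := 29) (by norm_num) (by decide +kernel)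
  simp only [H978.RadRu.wprod_rep, wprod_append] at r1 r2 r3 e1 e2 e3
  have hP := H978.RadCube.isPGroup_cube (p := 5) e1 e2 e3 r1 r2 r3
  refine H555.RV.no2_of_extra (p := 5) (a := 14) (m := 71253) (by norm_num) (by norm_num) (by rw [cru]; norm_num)
    (by norm_num) (by norm_num) inv25 hP (x := wprod ml H978.RadRu.wa) (y := wprod ml H978.RadRu.wb)
    ⟨1, 0, 0, by simp⟩ ⟨0, 1, 0, by simp⟩ ?_ (H555.RV.ar_five (by norm_num))
  intro h
  rw [e3] at h
  exact hc1 (mul_eq_right.1 h)

theorem chk00 : chkRel [[0, 0]] = true := by decide +kernel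

theorem ord0 : orderOf (wprod ml [0] : RuOrder.H) = 2 := by
  have hne : (wprod ml [0] : RuOrder.H) ≠ 1 := H978.RadRu.ne_one_of (b := 29) (by norm_num) (by decide +kernel)
  have hsq : (wprod ml [0] : RuOrder.H) * wprod ml [0] = 1 := by
    rw [← wprod_append]
    exact rel_of_chk chk00 _ (by simp)
  exact orderOf_eq_prime (by rw [pow_two, hsq]) hne

theorem not_nine_aux {G : Type*} [Group G] [Finite G] {x t : G} (h25 : 5 ^ 2 ∣ Nat.card (centralizer ({x} : Set G)))
    (ht : orderOf t = 2) (hxt : x * t = t * x) (hle : Nat.card (centralizer ({x} : Set G)) ≤ 300) :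
    ¬ 3 ^ 2 ∣ Nat.card (centralizer ({x} : Set G)) := by
  intro h9
  have h2 : 2 ∣ Nat.card (centralizer ({x} : Set G)) := by
    have h3 := Subgroup.orderOf_dvd_natCard (centralizer ({x} : Set G)) (mem_centralizer_singleton_iff.2 hxt.symm)
    rwa [ht] at h3
  have h4 : 3 ^ 2 * 5 ^ 2 * 2 ∣ Nat.card (centralizer ({x} : Set G)) :=
    Nat.Coprime.mul_dvd_of_dvd_of_dvd (by norm_num) (Nat.Coprime.mul_dvd_of_dvd_of_dvd (by norm_num) h9 h25) h2
  have h5 := Nat.le_of_dvd Nat.card_pos h4
  omega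

theorem not_nine : ¬ 3 ^ 2 ∣ Nat.card ↥(centralizer ({wprod ml CpAutRuFive.Cert.wB} : Set RuOrder.H)) := by
  have := fin
  exact not_nine_aux (sq_dvd_cent (by norm_num) (by rw [cru]; norm_num) CpAutRuFive.orderB) ord0 CpAutRuFive.commB
    CpAutRuFive.cardB

theorem three_five : ¬ Dom ({3, 5} : Set ℕ) RuOrder.H := by
  have := fin
  refine H464.RM.nd_of fun K => H464.RM.no_ns (a := 3) (b := 3) (m := 43237376) (c := 2) Nat.prime_three
    Nat.prime_five (by norm_num) (by rw [cru]; norm_num) (by norm_num) (by norm_num) (fun k h1 h2 => ?_)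
    (fun k => if k = 2 then 1 else 0) (fun k h1 h2 => ?_) (by decide) (y := wprod ml CpAutRuFive.Cert.wB) (l := 1) ?_ not_nine K
  · interval_cases k <;> norm_num
  · interval_cases k <;> norm_num
  · rw [pow_one, ← CpAutRuFive.orderB, pow_orderOf_eq_one]

end RuRow

variable {S : Type u} [Group S] [Finite S] [IsSimpleGroup S]

omit [Finite S] [IsSimpleGroup S] in
theorem exists_equiv_ru (h : Spor.IsoRu S) : Nonempty (S ≃* Cfsg.Agent.SporadicB.RuOrder.H) := by
  obtain ⟨e⟩ := h
  exact ⟨e.trans RuLat.Main.equiv⟩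

omit [IsSimpleGroup S] in
/-- **Ru, `{2,5}`** -/
theorem no2_ru_5 (h : Spor.IsoRu S) : ¬ Dom ({2, 5} : Set ℕ) S := by
  obtain ⟨e⟩ := exists_equiv_ru h
  exact fun hD => RuRow.two_five (H555.RV.dom_equiv e hD)

omit [IsSimpleGroup S] in
/-- **Ru, `{2,7}`** -/
theorem no2_ru_7 (h : Spor.IsoRu S) : ¬ Dom ({2, 7} : Set ℕ) S := by
  obtain ⟨e⟩ := exists_equiv_ru h
  intro hD
  have hD' := H555.RV.dom_equiv e hD
  have := Cfsg.Agent.H148.Ru.fin
  have hF : Fact (Nat.Prime 7) := ⟨by norm_num⟩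
  obtain ⟨x, hx⟩ := exists_prime_orderOf_dvd_card' (G := Cfsg.Agent.SporadicB.RuOrder.H) 7 (by rw [RuRow.cru]; norm_num)
  have hR : Nat.card (zpowers x) = 7 := by rw [Nat.card_zpowers, hx]
  rcases RuRow.c7 hR with h1 | h1
  · exact Cfsg.Agent.H543.RV.G.nd_of_count (s := 2) (p := 7) (a := 14) (b := 0) (c := 1) (m := 1272375) (n := 21)
      (by norm_num) (by norm_num) (by norm_num) (by rw [RuRow.cru]; norm_num) (by norm_num) (by norm_num) (P := zpowers x)
      (by rw [hR, pow_one]) (by rw [h1]; norm_num) (by norm_num) (by norm_num) hD'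
  · exact Cfsg.Agent.H543.RV.G.nd_of_count (s := 2) (p := 7) (a := 14) (b := 3) (c := 1) (m := 1272375) (n := 21)
      (by norm_num) (by norm_num) (by norm_num) (by rw [RuRow.cru]; norm_num) (by norm_num) (by norm_num) (P := zpowers x)
      (by rw [hR, pow_one]) (by rw [h1]; norm_num) (by norm_num) (by norm_num) hD'

omit [IsSimpleGroup S] in
/-- **Ru, `{2,13}`** -/
theorem no2_ru_13 (h : Spor.IsoRu S) : ¬ Dom ({2, 13} : Set ℕ) S := by
  obtain ⟨e⟩ := exists_equiv_ru h
  exact nd_cn e (a := 14) (b := 4) (m := 685125) (n := 39) (by norm_num) (by norm_num) (by norm_num) RuRow.cru (by norm_num)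
    (by norm_num) (by norm_num) (fun _ hR => RuRow.c13 hR) (by norm_num) (by norm_num) (by norm_num)

omit [IsSimpleGroup S] in
/-- **Ru, `{2,29}`** -/
theorem no2_ru_29 (h : Spor.IsoRu S) : ¬ Dom ({2, 29} : Set ℕ) S := by
  obtain ⟨e⟩ := exists_equiv_ru h
  exact nd_cn e (a := 14) (b := 1) (m := 307125) (n := 203) (by norm_num) (by norm_num) (by norm_num) RuRow.cru (by norm_num)
    (by norm_num) (by norm_num) (fun _ hR => RuRow.c29 hR) (by norm_num) (by norm_num) (by norm_num)

omit [IsSimpleGroup S] in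
/-- **Ru, `{3,5}`** -/
theorem no_ru_3_5 (h : Spor.IsoRu S) : ¬ Dom ({3, 5} : Set ℕ) S := by
  obtain ⟨e⟩ := exists_equiv_ru h
  exact fun hD => RuRow.three_five (H555.RV.dom_equiv e hD)

omit [IsSimpleGroup S] in
/-- **Ru, `{3,13}`** -/
theorem no_ru_3_13 (h : Spor.IsoRu S) : ¬ Dom ({3, 13} : Set ℕ) S := by
  obtain ⟨e⟩ := exists_equiv_ru h
  exact nd_cn e (a := 3) (b := 1) (m := 415744000) (n := 208) (by norm_num) (by norm_num) (by norm_num) RuRow.cru (by norm_num)
    (by norm_num) (by norm_num) (fun _ hR => RuRow.c13 hR) (by norm_num) (by norm_num) (by norm_num)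

end Cfsg.Agent.H543.RM
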