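import Cfsg.Agent.H543.RV.CountG
import Cfsg.Agent.H555.RV.Crit

/-!
# S3849, P11: the Sylow count for a group isomorphic to `G` (helper543)
-/

set_option autoImplicit false

namespace Cfsg.Agent.H543.RM

open Subgroup Cfsg Cfsg.Agent.H571.DExt

universe u

/-- the count from the order of the normalizers of the subgroups of order `p` of an isomorphic group -/
theorem nd_cn {S : Type u} [Group S] [Finite S] {G : Type} [Group G] (e : S ≃* G) {s p a b m n N M : ℕ}
    (hs : s.Prime) (hp : p.Prime) (hsp : p ≠ s) (hcard : Nat.card G = N) (hN : N = s ^ a * p ^ 1 * m) (h2 : ¬ s ∣ m)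
    (hm : ¬ p ∣ m) (hcn : ∀ R : Subgroup G, Nat.card R = p → Nat.card (normalizer (R : Set G)) = M)
    (hM : M = s ^ b * n) (hn : ¬ s ∣ n) (har : ¬ s ^ (a - b) % p = 1 % p) : ¬ Dom ({s, p} : Set ℕ) S := by
  intro hD
  have hfin : Finite G := Finite.of_equiv S e.toEquiv
  have hF : Fact p.Prime := ⟨hp⟩
  obtain ⟨x, hx⟩ := exists_prime_orderOf_dvd_card' (G := G) p (by rw [hcard, hN, pow_one]; exact Dvd.intro_left _ rfl |>.mul_right _)
  have hR : Nat.card (zpowers x) = p := by rw [Nat.card_zpowers, hx]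
  exact Cfsg.Agent.H543.RV.G.nd_of_count hs hp hsp (by rw [hcard, hN]) h2 hm (P := zpowers x) (by rw [hR, pow_one])
    (by rw [hcn _ hR, hM]) hn har (Cfsg.Agent.H555.RV.dom_equiv e hD)

end Cfsg.Agent.H543.RM
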